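import Groth.Agent.Lib.Helper30.ExtZero
import Groth.Prelude.Def_ModSite2

/-!
# The fibre of the presheaf `V ↦ ⨁_{φ : V ⟶ U} G(φ)` at a point of a site

For a point `p` of a site `(C, J)`, an object `U` and a presheaf of modules `G` on `C/U`, the fibre
at `p` of the presheaf extension by zero of `G` is the coproduct, over the elements `x` of the
fibre of `p` at `U`, of the fibres of `G` at the points `p.over x` of `C/U`.
-/

set_option autoImplicit false
universe u
open CategoryTheory Limits Opposite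

namespace Groth.Agent.Lib.Helper74.StalkExt

open Groth.Agent.Lib.Helper30.ExtZero

open scoped Classical
noncomputable section

variable {C : Type u} [SmallCategory C] {J : GrothendieckTopology C}
  (p : GrothendieckTopology.Point.{u} J) {R₀ : Cᵒᵖ ⥤ RingCat.{u}} {U : C}
  (G : PresheafOfModules.{u} (ROver R₀ U))

/-- the coproduct of the fibres of `G` at the points of `C/U` above `p` -/
abbrev T : AddCommGrpCat.{u} :=
  ∐ fun x : p.fiber.obj U => (p.over x).presheafFiber.obj G.presheaf

/-- the element of the fibre of `p.over x` given by `y` with `φ_* y = x` -/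
abbrev overElt {V : C} (φ : V ⟶ U) (y : p.fiber.obj V) (x : p.fiber.obj U)
    (h : p.fiber.map φ y = x) : (p.over x).fiber.obj (Over.mk φ) := ⟨y, h⟩

/-- germ at `(φ, y)` followed by the inclusion of the summand `x` -/
def γ {V : C} (φ : V ⟶ U) (y : p.fiber.obj V) (x : p.fiber.obj U)
    (h : p.fiber.map φ y = x) : G.presheaf.obj (op (Over.mk φ)) ⟶ T p G :=
  (p.over x).toPresheafFiber (Over.mk φ) (overElt p φ y x h) G.presheaf ≫
    Sigma.ι (fun x : p.fiber.obj U => (p.over x).presheafFiber.obj G.presheaf) x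

lemma γ_congr {V : C} (φ : V ⟶ U) (y : p.fiber.obj V) (x x' : p.fiber.obj U)
    (h : p.fiber.map φ y = x) (e : x = x') : γ p G φ y x h = γ p G φ y x' (h.trans e) := by
  subst e
  rfl

lemma γ_w {V V' : C} (g : V' ⟶ V) (φ : V ⟶ U) (y' : p.fiber.obj V') (x : p.fiber.obj U)
    (h : p.fiber.map φ (p.fiber.map g y') = x) :
    G.presheaf.map (Over.homMk g rfl : Over.mk (g ≫ φ) ⟶ Over.mk φ).op ≫
      γ p G (g ≫ φ) y' x ((Functor.map_comp_apply p.fiber g φ y').trans h) =
    γ p G φ (p.fiber.map g y') x h := by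
  dsimp only [γ]
  rw [← Category.assoc, (p.over x).toPresheafFiber_w]
  rfl

/-- the forward map on sections over `V` at `y` -/
def fwdApp (V : C) (y : p.fiber.obj V) : (extAb G).obj (op V) ⟶ T p G :=
  AddCommGrpCat.ofHom (DirectSum.toAddMonoid (fun φ : V ⟶ U =>
    (γ p G φ y (p.fiber.map φ y) rfl).hom))

lemma fwdApp_of (V : C) (y : p.fiber.obj V) (φ : V ⟶ U) (s : comp G (op V) φ) :
    (fwdApp p G V y).hom (ofS G (op V) φ s) = (γ p G φ y (p.fiber.map φ y) rfl).hom s := by
  exact DirectSum.toAddMonoid_of (β := fun φ : V ⟶ U => comp G (op V) φ)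
    (fun φ : V ⟶ U => (γ p G φ y (p.fiber.map φ y) rfl).hom) φ s

lemma fwdApp_w {V' V : C} (g : V' ⟶ V) (y' : p.fiber.obj V') :
    (extAb G).map g.op ≫ fwdApp p G V' y' = fwdApp p G V (p.fiber.map g y') := by
  apply AddCommGrpCat.hom_ext
  apply DirectSum.addHom_ext
  intro φ s
  change (fwdApp p G V' y').hom (secMap G g.op (ofS G (op V) φ s)) =
    (fwdApp p G V (p.fiber.map g y')).hom (ofS G (op V) φ s)
  rw [secMap_of, fwdApp_of, fwdApp_of]
  have h1 := γ_congr p G (g ≫ φ) y' (p.fiber.map (g ≫ φ) y') (p.fiber.map φ (p.fiber.map g y')) rfl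
    (Functor.map_comp_apply p.fiber g φ y')
  have h2 := γ_w p G g φ y' (p.fiber.map φ (p.fiber.map g y')) rfl
  rw [← h2]
  change (γ p G (g ≫ φ) y' (p.fiber.map (g ≫ φ) y') rfl).hom (G.map (arr g.op φ).op s) = _
  rw [h1]
  rfl

/-- the forward map -/
def fwd : p.presheafFiber.obj (extAb G) ⟶ T p G :=
  p.presheafFiberDesc (fun V y => fwdApp p G V y) (fun _ _ g y' => fwdApp_w p G g y')

/-- the backward map on the germs at `(W, w)` -/
def bwdApp (x : p.fiber.obj U) (W : Over U) (w : (p.over x).fiber.obj W) :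
    G.presheaf.obj (op W) ⟶ p.presheafFiber.obj (extAb G) :=
  (AddCommGrpCat.ofHom (ofS G (op W.left) W.hom) :
    G.presheaf.obj (op W) ⟶ (extAb G).obj (op W.left)) ≫
    p.toPresheafFiber W.left w.1 (extAb G)

lemma bwdApp_apply (x : p.fiber.obj U) (W : Over U) (w : (p.over x).fiber.obj W)
    (s : G.presheaf.obj (op W)) :
    (bwdApp p G x W w).hom s =
      (p.toPresheafFiber W.left w.1 (extAb G)).hom (ofS G (op W.left) W.hom s) := rfl

lemma bwdApp_w (x : p.fiber.obj U) {W' W : Over U} (f : W' ⟶ W) (w' : (p.over x).fiber.obj W') :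
    G.presheaf.map f.op ≫ bwdApp p G x W' w' = bwdApp p G x W ((p.over x).fiber.map f w') := by
  apply AddCommGrpCat.hom_ext
  ext s
  change (p.toPresheafFiber W'.left w'.1 (extAb G)).hom
      (ofS G (op W'.left) W'.hom (G.map f.op s)) =
    (p.toPresheafFiber W.left (p.fiber.map f.left w'.1) (extAb G)).hom
      (ofS G (op W.left) W.hom s)
  rw [← p.toPresheafFiber_w_apply f.left w'.1 (extAb G)]
  congr 1
  change _ = secMap G f.left.op (ofS G (op W.left) W.hom s)
  rw [secMap_of]
  exact (ofS_congr G (arr f.left.op W.hom) f (Over.w f) rfl s).symm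

/-- the backward map -/
def bwd : T p G ⟶ p.presheafFiber.obj (extAb G) :=
  Sigma.desc (fun x => (p.over x).presheafFiberDesc (fun W w => bwdApp p G x W w)
    (fun _ _ f w' => bwdApp_w p G x f w'))

lemma γ_bwd {V : C} (φ : V ⟶ U) (y : p.fiber.obj V) (x : p.fiber.obj U)
    (h : p.fiber.map φ y = x) :
    γ p G φ y x h ≫ bwd p G = bwdApp p G x (Over.mk φ) (overElt p φ y x h) := by
  dsimp only [γ, bwd]
  rw [Category.assoc, Sigma.ι_desc]
  exact (p.over x).toPresheafFiber_presheafFiberDesc (fun W w => bwdApp p G x W w)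
    (fun _ _ f w' => bwdApp_w p G x f w') _ _

lemma fwd_bwd : fwd p G ≫ bwd p G = 𝟙 _ := by
  apply p.presheafFiber_hom_ext
  intro V y
  rw [Category.comp_id]
  dsimp only [fwd]
  rw [p.toPresheafFiber_presheafFiberDesc_assoc (fun V y => fwdApp p G V y)
    (fun _ _ g y' => fwdApp_w p G g y')]
  apply AddCommGrpCat.hom_ext
  apply DirectSum.addHom_ext
  intro φ s
  change (bwd p G).hom ((fwdApp p G V y).hom (ofS G (op V) φ s)) = _
  rw [fwdApp_of]
  change (γ p G φ y (p.fiber.map φ y) rfl ≫ bwd p G).hom s = _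
  rw [γ_bwd]
  rfl

lemma bwd_fwd : bwd p G ≫ fwd p G = 𝟙 _ := by
  apply Sigma.hom_ext
  intro x
  apply (p.over x).presheafFiber_hom_ext
  intro W w
  rw [Category.comp_id]
  dsimp only [bwd]
  rw [Sigma.ι_desc_assoc, (p.over x).toPresheafFiber_presheafFiberDesc_assoc
    (fun W w => bwdApp p G x W w) (fun _ _ f w' => bwdApp_w p G x f w')]
  apply AddCommGrpCat.hom_ext
  ext s
  change (p.toPresheafFiber W.left w.1 (extAb G) ≫ fwd p G).hom (ofS G (op W.left) W.hom s) = _
  dsimp only [fwd]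
  rw [p.toPresheafFiber_presheafFiberDesc (fun V y => fwdApp p G V y)
    (fun _ _ g y' => fwdApp_w p G g y'), fwdApp_of,
    γ_congr p G W.hom w.1 (p.fiber.map W.hom w.1) x rfl w.2]
  rfl

/-- **The fibre of the presheaf extension by zero.** -/
def fiberExtIso : p.presheafFiber.obj (extAb G) ≅ T p G where
  hom := fwd p G
  inv := bwd p G
  hom_inv_id := fwd_bwd p G
  inv_hom_id := bwd_fwd p G

end

end Groth.Agent.Lib.Helper74.StalkExt
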