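import Groth.Agent.Lib.Helper74.StalkExt.Core

/-!
# The stalk of an extension by zero at a point of a site
-/

set_option autoImplicit false
universe u
open CategoryTheory Limits Opposite

namespace Groth.Agent.Lib.Helper74.StalkExt

open Groth.Agent.Lib.Helper30.ExtZero

noncomputable section

variable {C : Type u} [SmallCategory C] {J : GrothendieckTopology C}
  (p : GrothendieckTopology.Point.{u} J)

/-- the fibre of the sheafification of a presheaf of abelian groups is the fibre of the presheaf -/
def presheafFiberSheafifyIso (P₀ : Cᵒᵖ ⥤ AddCommGrpCat.{u}) :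
    p.presheafFiber.obj P₀ ≅ p.presheafFiber.obj ((presheafToSheaf J AddCommGrpCat.{u}).obj P₀).obj :=
  haveI : IsIso (p.presheafFiber.map (toSheafify J P₀)) :=
    p.W_isInvertedBy_presheafFiber' _ (J.W_toSheafify P₀)
  asIso (p.presheafFiber.map (toSheafify J P₀))

variable (O : Sheaf J CommRingCat.{u}) (U : C) (G : ModSite.Mod (O.over U))

theorem nonempty_stalkAb_extZero_iso :
    Nonempty (ModSite.stalkAb p ((ModSite.extZero O U).obj G) ≅
      ∐ fun x : p.fiber.obj U => ModSite.stalkAb (p.over x) G) := by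
  let e1 : (ModSite.extZero O U).obj G ≅ (extS (ModSite.ringSh O) U).obj G :=
    (pullbackIsoExtS (ModSite.ringSh O) U).app G
  let e2 : ModSite.stalkAb p ((ModSite.extZero O U).obj G) ≅
      p.sheafFiber.obj ((SheafOfModules.toSheaf (ModSite.ringSh O)).obj
        ((extS (ModSite.ringSh O) U).obj G)) :=
    p.sheafFiber.mapIso ((SheafOfModules.toSheaf (ModSite.ringSh O)).mapIso e1)
  let e3 : p.presheafFiber.obj (extAb (R₀ := (ModSite.ringSh O).obj) (X := U) G.val) ≅
      p.sheafFiber.obj ((SheafOfModules.toSheaf (ModSite.ringSh O)).obj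
        ((extS (ModSite.ringSh O) U).obj G)) :=
    presheafFiberSheafifyIso p (extAb (R₀ := (ModSite.ringSh O).obj) (X := U) G.val)
  exact ⟨e2 ≪≫ e3.symm ≪≫ fiberExtIso (R₀ := (ModSite.ringSh O).obj) (U := U) p G.val⟩

end

end Groth.Agent.Lib.Helper74.StalkExt
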